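import Mathlib
import Cfsg.Agent.H198.TwComp

/-!
# Closed subspaces of a twisted composition (helper452; for S3510, triality type iii, four minus planes)

`m` a product, `σ⁻¹`-semilinear on the left, `σ`-semilinear on the right, `Q (m u w) = σ⁻¹ (Q u) σ (Q w)`,
`polar Q (m v w) u = σ (polar Q (m u v) w)`.

* `closed_le_half` : a closed nondegenerate proper subspace has dimension at most half of the dimension;
* `exists_not_closed` : four orthogonal anisotropic planes: some sum of two of them is not closed;
* `eq_one_of_fix` : an automorphism of order prime to the characteristic which fixes a nondegenerate not closed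
  subspace of dimension `≥ 4` of the eight-dimensional space is `1`.
-/

set_option autoImplicit false

namespace Cfsg.Agent.H452.RC.FMP

open Module QuadraticMap Cfsg.Agent.LieClassical.OrthCore Cfsg.Agent.LieClassical.OrthTrans Cfsg.Agent.H198.TwComp

variable {F V : Type*} [Field F] [AddCommGroup V] [Module F V] {Q : QuadraticForm F V} {σ : F ≃+* F} {m : V → V → V}

/-- closed under the product -/
def Closed (m : V → V → V) (W : Submodule F V) : Prop := ∀ u ∈ W, ∀ w ∈ W, m u w ∈ W

/-- nondegenerate for the polar form -/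
def ND (Q : QuadraticForm F V) (W : Submodule F V) : Prop := ∀ v ∈ W, (∀ w ∈ W, polar Q v w = 0) → v = 0

/-- the orthogonal subspace -/
def perp (Q : QuadraticForm F V) (W : Submodule F V) : Submodule F V where
  carrier := {v | ∀ w ∈ W, polar Q v w = 0}
  add_mem' := by
    intro a b ha hb w hw
    rw [polar_add_left, ha w hw, hb w hw, add_zero]
  zero_mem' := fun w _ => by rw [polar_zero_left]
  smul_mem' := by
    intro c a ha w hw
    rw [polar_smul_left, ha w hw, smul_zero]

theorem mem_perp {W : Submodule F V} {v : V} : v ∈ perp Q W ↔ ∀ w ∈ W, polar Q v w = 0 := Iff.rfl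

theorem exists_decomp [FiniteDimensional F V] {W : Submodule F V} (hW : ND Q W) (v : V) :
    ∃ a ∈ W, ∃ b ∈ perp Q W, v = a + b := by
  let B : LinearMap.BilinForm F V := polarBilin Q
  have hB : ∀ x y, B x y = polar Q x y := fun x y => rfl
  have hr : (B.restrict W).Nondegenerate := by
    have hsymm : ∀ x y : W, (B.restrict W) x y = (B.restrict W) y x := by
      intro x y
      show polar Q (x : V) y = polar Q (y : V) x
      rw [polar_comm]
    have hl : ∀ x : W, (∀ y : W, (B.restrict W) x y = 0) → x = 0 := by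
      intro x hx
      exact Subtype.ext (hW x x.2 (fun w hw => hx ⟨w, hw⟩))
    refine ⟨hl, fun x hx => hl x (fun y => ?_)⟩
    rw [hsymm]; exact hx y
  -- the functional `w ↦ polar v w` on `W` is represented
  obtain ⟨a, ha⟩ : ∃ a : W, ∀ w : W, polar Q (a : V) w = polar Q v w := by
    let f : W →ₗ[F] Module.Dual F W := (B.restrict W)
    have hinj : Function.Injective f := by
      rw [injective_iff_map_eq_zero]
      intro a ha
      apply hr.1
      intro y
      have h1 := LinearMap.congr_fun ha y
      exact h1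
    have hfr : finrank F W = finrank F (Module.Dual F W) := (Subspace.dual_finrank_eq).symm
    have hsurj : Function.Surjective f := (LinearMap.injective_iff_surjective_of_finrank_eq_finrank hfr).1 hinj
    obtain ⟨a, ha⟩ := hsurj ((B v).comp W.subtype)
    refine ⟨a, fun w => ?_⟩
    have h1 := LinearMap.congr_fun ha w
    exact h1
  refine ⟨a, a.2, v - a, ?_, by abel⟩
  intro w hw
  have h1 := ha ⟨w, hw⟩
  rw [polar_sub_left]
  rw [sub_eq_zero]
  exact h1.symm

theorem exists_nonsing [FiniteDimensional F V] (hQ : Nondeg Q) {W : Submodule F V} (hW : ND Q W) (hT : W ≠ ⊤) :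
    ∃ b ∈ perp Q W, Q b ≠ 0 := by
  by_contra hcon
  push Not at hcon
  apply hT
  rw [Submodule.eq_top_iff']
  intro v
  obtain ⟨a, ha, b, hb, rfl⟩ := exists_decomp hW v
  have hb0 : b = 0 := by
    apply hQ
    intro y
    obtain ⟨a', ha', b', hb', rfl⟩ := exists_decomp hW y
    rw [polar_add_right, hb a' ha', zero_add]
    have h1 := hcon _ ((perp Q W).add_mem hb hb')
    rw [Q_add, hcon b hb, hcon b' hb', zero_add, zero_add] at h1
    exact h1
  rw [hb0, add_zero]
  exact ha

/-- (Z0) A closed nondegenerate proper subspace has at most half of the dimension. -/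
theorem closed_le_half [Finite F] [FiniteDimensional F V] (h : TC Q σ m)
    (hp : ∀ u v w, polar Q (m v w) u = σ (polar Q (m u v) w)) (hQ : Nondeg Q) {W : Submodule F V} (hW : ND Q W)
    (hc : Closed m W) (hT : W ≠ ⊤) : finrank F W ≤ finrank F (perp Q W) := by
  obtain ⟨b, hb, hb0⟩ := exists_nonsing hQ hW hT
  have hmem : ∀ w ∈ W, m w b ∈ perp Q W := by
    intro w hw u hu
    rw [hp, polar_comm, hb _ (hc u hu w hw), map_zero]
  have hinj : ∀ w w' : V, m w b = m w' b → w = w' := by
    intro w w' he
    have h1 := h.right b w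
    rw [he, h.right] at h1
    have h2 : σ.symm (Q b) ≠ 0 := by
      intro h3
      exact hb0 ((map_eq_zero σ.symm).1 h3)
    exact (smul_right_injective V h2 h1).symm
  haveI : Finite V := Module.finite_of_finite F
  let f : W → perp Q W := fun w => ⟨m w b, hmem w w.2⟩
  have hf : Function.Injective f := by
    intro w w' he
    exact Subtype.ext (hinj w w' (congrArg Subtype.val he))
  have hle := Nat.card_le_card_of_injective f hf
  have e1 : Nat.card W = Nat.card F ^ finrank F W := Module.natCard_eq_pow_finrank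
  have e2 : Nat.card (perp Q W) = Nat.card F ^ finrank F (perp Q W) := Module.natCard_eq_pow_finrank
  rw [e1, e2] at hle
  exact (Nat.pow_le_pow_iff_right Finite.one_lt_card).1 hle

theorem finrank_perp_add [FiniteDimensional F V] {W : Submodule F V} (hW : ND Q W) :
    finrank F W + finrank F (perp Q W) ≤ finrank F V := by
  have h1 : W ⊓ perp Q W = ⊥ := by
    rw [Submodule.eq_bot_iff]
    rintro v ⟨hv, hv'⟩
    exact hW v hv (fun w hw => hv' w hw)
  have h2 := Submodule.finrank_sup_add_finrank_inf_eq W (perp Q W)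
  rw [h1, finrank_bot, add_zero] at h2
  rw [← h2]
  exact Submodule.finrank_le _

/-- a two-dimensional anisotropic space over a finite field is nondegenerate -/
theorem nd_of_aniso [Finite F] {P : Submodule F V} (h2 : finrank F P = 2) (hP : ∀ v ∈ P, Q v = 0 → v = 0) : ND Q P := by
  intro v hv hv'
  by_contra hv0
  have h1 := hv' v hv
  have h3 : (2 : F) * Q v = 0 := by
    have e : polar Q v v = 2 * Q v := by
      rw [polar, ← two_smul F v, QuadraticMap.map_smul]
      simp only [smul_eq_mul]
      ring
    rw [← e, h1]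
  have hQv : Q v ≠ 0 := fun h4 => hv0 (hP v hv h4)
  have h20 : (2 : F) = 0 := (mul_eq_zero.1 h3).resolve_right hQv
  haveI : CharP F 2 := CharTwo.of_one_ne_zero_of_two_eq_zero one_ne_zero h20
  -- a second vector
  obtain ⟨w, hw, hwv⟩ : ∃ w ∈ P, ∀ a : F, w ≠ a • v := by
    by_contra hcon
    push Not at hcon
    have h4 : P ≤ Submodule.span F {v} := by
      intro w hw
      obtain ⟨a, ha⟩ := hcon w hw
      rw [ha]
      exact Submodule.smul_mem _ _ (Submodule.mem_span_singleton_self v)
    have h5 := Submodule.finrank_mono h4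
    have h6 : finrank F (Submodule.span F {v}) = 1 := finrank_span_singleton hv0
    omega
  haveI : Fintype F := Fintype.ofFinite F
  obtain ⟨a, ha⟩ : ∃ a : F, a ^ 2 = Q w / Q v := by
    haveI : ExpChar F 2 := ExpChar.prime Nat.prime_two
    obtain ⟨a, ha⟩ := (bijective_frobenius F 2).2 (Q w / Q v)
    exact ⟨a, ha⟩
  have hz : Q (w + a • v) = 0 := by
    rw [Q_add, QuadraticMap.map_smul, polar_smul_right, polar_comm, hv' w hw, smul_zero, add_zero]
    have e : a * a = Q w / Q v := by rw [← ha]; ring
    rw [e, smul_eq_mul, div_mul_cancel₀ _ hQv]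
    exact CharTwo.add_self_eq_zero _
  have h4 := hP _ (P.add_mem hw (P.smul_mem a hv)) hz
  apply hwv (-a)
  rw [neg_smul]
  exact eq_neg_of_add_eq_zero_left h4

/-- (Z1) Four orthogonal anisotropic planes: the sum of some two of them is not closed. (Three planes are enough.) -/
theorem exists_not_closed [Finite F] (hn : ∀ u w, Q (m u w) = σ.symm (Q u) * σ (Q w))
    (hp : ∀ u v w, polar Q (m v w) u = σ (polar Q (m u v) w)) (P : Fin 4 → Submodule F V)
    (h2 : ∀ k, finrank F (P k) = 2) (ho : ∀ k l, k ≠ l → ∀ v ∈ P k, ∀ w ∈ P l, polar Q v w = 0)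
    (ha : ∀ k, ∀ v ∈ P k, Q v = 0 → v = 0) : ∃ a b, a ≠ b ∧ ¬ Closed m (P a ⊔ P b) := by
  by_contra hcon
  push Not at hcon
  have hnd : ∀ k, ND Q (P k) := fun k => nd_of_aniso (h2 k) (ha k)
  -- `P a` is closed
  have hcl : ∀ a b c : Fin 4, a ≠ b → a ≠ c → b ≠ c → Closed m (P a) := by
    intro a b c hab hac hbc v hv w hw
    have h3 := hcon a b hab v (Submodule.mem_sup_left hv) w (Submodule.mem_sup_left hw)
    have h4 := hcon a c hac v (Submodule.mem_sup_left hv) w (Submodule.mem_sup_left hw)
    obtain ⟨x, hx, y, hy, hxy⟩ := Submodule.mem_sup.1 h3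
    obtain ⟨x', hx', z, hz, hxz⟩ := Submodule.mem_sup.1 h4
    have hy0 : y = 0 := by
      apply hnd b y hy
      intro d hd
      have e : y = (x' - x) + z := by
        rw [sub_add_eq_add_sub, hxz, ← hxy]; abel
      rw [e, polar_add_left, ho a b hab _ ((P a).sub_mem hx' hx) d hd, ho c b (Ne.symm hbc) z hz d hd, add_zero]
    rw [hy0, add_zero] at hxy
    rw [← hxy]
    exact hx
  have hc0 : Closed m (P 0) := hcl 0 1 2 (by decide) (by decide) (by decide)
  have hc1 : Closed m (P 1) := hcl 1 0 2 (by decide) (by decide) (by decide)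
  have h01 : (0 : Fin 4) ≠ 1 := by decide
  obtain ⟨v, hv, hv0⟩ : ∃ v ∈ P 0, v ≠ 0 := by
    by_contra hc
    push Not at hc
    have : P 0 = ⊥ := by rw [Submodule.eq_bot_iff]; exact hc
    have h3 := h2 0
    rw [this, finrank_bot] at h3
    omega
  obtain ⟨w, hw, hw0⟩ : ∃ w ∈ P 1, w ≠ 0 := by
    by_contra hc
    push Not at hc
    have : P 1 = ⊥ := by rw [Submodule.eq_bot_iff]; exact hc
    have h3 := h2 1
    rw [this, finrank_bot] at h3
    omega
  obtain ⟨x, hx, y, hy, hxy⟩ := Submodule.mem_sup.1
    (hcon 0 1 h01 v (Submodule.mem_sup_left hv) w (Submodule.mem_sup_right hw))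
  have hx0 : x = 0 := by
    apply hnd 0 x hx
    intro u hu
    have h3 : polar Q (m v w) u = 0 := by
      rw [hp, ho 0 1 h01 _ (hc0 u hu v hv) w hw, map_zero]
    rw [← hxy, polar_add_left, ho 1 0 (Ne.symm h01) y hy u hu, add_zero] at h3
    exact h3
  have hy0 : y = 0 := by
    apply hnd 1 y hy
    intro u hu
    have h3 : polar Q (m v w) u = 0 := by
      rw [hp, hp, ho 1 0 (Ne.symm h01) _ (hc1 w hw u hu) v hv, map_zero, map_zero]
    rw [← hxy, polar_add_left, ho 0 1 h01 x hx u hu, zero_add] at h3
    exact h3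
  rw [hx0, hy0, add_zero] at hxy
  have h5 := hn v w
  rw [← hxy, QuadraticMap.map_zero] at h5
  rcases mul_eq_zero.1 h5.symm with h6 | h6
  · exact hv0 (ha 0 v hv ((map_eq_zero σ.symm).1 h6))
  · exact hw0 (ha 1 w hw ((map_eq_zero σ).1 h6))

/-- the fixed space -/
def fix (c : V ≃ₗ[F] V) : Submodule F V where
  carrier := {v | c v = v}
  add_mem' := by
    intro a b ha hb
    show c (a + b) = a + b
    rw [map_add, show c a = a from ha, show c b = b from hb]
  zero_mem' := map_zero c
  smul_mem' := by
    intro k a ha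
    show c (k • a) = k • a
    rw [map_smul, show c a = a from ha]

theorem mem_fix {c : V ≃ₗ[F] V} {v : V} : v ∈ fix c ↔ c v = v := Iff.rfl

/-- the fixed space of an isometry of order prime to the characteristic is nondegenerate -/
theorem nd_fix (hQ : Nondeg Q) {c : V ≃ₗ[F] V} (hc : ∀ u v, polar Q (c u) (c v) = polar Q u v) {n : ℕ}
    (hn : (n : F) ≠ 0) (hcn : c ^ n = 1) : ND Q (fix c) := by
  intro v hv hv'
  apply hQ
  intro u
  set S : V := ∑ k ∈ Finset.range n, (c ^ k) u with hS
  have hcS : c S = S := by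
    rw [hS, map_sum]
    have e1 : ∀ k ∈ Finset.range n, c ((c ^ k) u) = (c ^ (k + 1)) u := by
      intro k _
      rw [pow_succ' c k]
      rfl
    rw [Finset.sum_congr rfl e1]
    have e2 := Finset.sum_range_succ (fun k => (c ^ k) u) n
    have e3 := Finset.sum_range_succ' (fun k => (c ^ k) u) n
    rw [e2] at e3
    rw [hcn, pow_zero] at e3
    exact (add_right_cancel e3).symm
  have h1 := hv' S hcS
  have hpk : ∀ k : ℕ, polar Q v ((c ^ k) u) = polar Q v u := by
    intro k
    induction k with
    | zero => rfl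
    | succ k ih =>
      have e : (c ^ (k + 1)) u = c ((c ^ k) u) := by rw [pow_succ' c k]; rfl
      have e' : polar Q v (c ((c ^ k) u)) = polar Q (c v) (c ((c ^ k) u)) := by rw [mem_fix.1 hv]
      rw [e, e', hc, ih]
  have h2 : polar Q v S = (n : F) * polar Q v u := by
    have e : polar Q v S = ∑ k ∈ Finset.range n, polar Q v ((c ^ k) u) := by
      rw [hS]
      exact map_sum (polarBilin Q v) _ _
    rw [e, Finset.sum_congr rfl (fun k _ => hpk k), Finset.sum_const, Finset.card_range, nsmul_eq_mul]
  rw [h2] at h1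
  exact (mul_eq_zero.1 h1).resolve_left hn

/-- (Z2) -/
theorem eq_one_of_fix [Finite F] [FiniteDimensional F V] (h8 : finrank F V = 8) (h : TC Q σ m)
    (hp : ∀ u v w, polar Q (m v w) u = σ (polar Q (m u v) w)) (hQ : Nondeg Q) {c : V ≃ₗ[F] V}
    (hc : ∀ u v, polar Q (c u) (c v) = polar Q u v) (hm : ∀ u w, c (m u w) = m (c u) (c w)) {n : ℕ}
    (hn : (n : F) ≠ 0) (hcn : c ^ n = 1) {W : Submodule F V} (h4 : 4 ≤ finrank F W) (hW : ¬ Closed m W)
    (hfix : ∀ v ∈ W, c v = v) : c = 1 := by
  have hnd := nd_fix hQ hc hn hcn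
  have hcl : Closed m (fix c) := by
    intro u hu w hw
    rw [mem_fix, hm, mem_fix.1 hu, mem_fix.1 hw]
  have hlt : W < fix c := by
    refine lt_of_le_of_ne (fun v hv => hfix v hv) ?_
    rintro rfl
    exact hW hcl
  have h5 := Submodule.finrank_lt_finrank_of_lt hlt
  have hT : fix c = ⊤ := by
    by_contra hT
    have h6 := closed_le_half h hp hQ hnd hcl hT
    have h7 := finrank_perp_add hnd
    omega
  ext v
  have h6 : v ∈ fix c := by rw [hT]; trivial
  exact h6

end Cfsg.Agent.H452.RC.FMP
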