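import Cfsg.Agent.H452.RC.GDec

/-!
# S3510, family E (unitary groups): the general rule DEC, main theorem (helper452)

* `exists_C` : the matrix of an isometry of `A`; `Rs.rho_eq_one`; `induces` : `x i` induces a power of `toAut C 1`;
* `gdec_main : GDecStmt`.
-/

set_option autoImplicit false
set_option linter.unusedSectionVars false

namespace Cfsg.Agent.H452.RC

open Matrix Cfsg Module Cfsg.Agent.LieClassical.HermBasic Cfsg.Agent.LieClassical.HermSiegel
  Cfsg.Agent.LieClassical.HermGen Cfsg.Agent.LieClassical.SUBasic Cfsg.Agent.ClassicalGeometry.PSUAutBasic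
  Cfsg.Agent.ClassicalGeometry.PSUAutCount Cfsg.Agent.LieClassical.FieldTransfer Cfsg.Agent.ClassicalGeometry
open Cfsg.Agent.H380.RC
open Cfsg.Agent.H189.SN (ON phi Im Im_mulVec phi_Im phi_perp phi_injective pr_phi_injective herm_Im herm_Im_perp
  decomp Im_injective exists_perp)

section C

variable {F : Type*} [Field F] [Fintype F] {n m q : ℕ}

/-- the matrix of an isometry of `A` -/
theorem exists_C (hF : Fintype.card F = q ^ 2) {A : Submodule F (Fin n → F)} {b : Fin m → (Fin n → F)} (hb : ON q b)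
    (hbA : ∀ c, Im b *ᵥ c ∈ A) (hAb : ∀ v ∈ A, ∃ c, v = Im b *ᵥ c) {g : (Fin n → F) → (Fin n → F)}
    (hadd : ∀ v w, g (v + w) = g v + g w) (hlin : Lin g) (hst : Stab g A)
    (hiso : ∀ v ∈ A, ∀ w ∈ A, hermForm n F q (g v) (g w) = hermForm n F q v w) :
    ∃ C : GU m F q, ∀ c, g (Im b *ᵥ c) = Im b *ᵥ sl C 1 c := by
  have hbi : ∀ i, b i ∈ A := by
    intro i
    have h1 := hbA (Pi.single i 1)
    rwa [Im_mulVec, Finset.sum_eq_single i, Pi.single_eq_same, one_smul] at h1
    · intro k _ hk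
      rw [Pi.single_eq_of_ne hk, zero_smul]
    · intro h
      exact absurd (Finset.mem_univ i) h
  have h1 : ∀ i, ∃ d, g (b i) = Im b *ᵥ d := fun i => hAb _ (hst _ (hbi i))
  choose d hd using h1
  let M : Matrix (Fin m) (Fin m) F := Matrix.of fun i j => d j i
  have hM : ∀ c, g (Im b *ᵥ c) = Im b *ᵥ (M *ᵥ c) := by
    intro c
    let gL : (Fin n → F) →ₗ[F] (Fin n → F) := { toFun := g, map_add' := hadd, map_smul' := hlin }
    have h2 : g (Im b *ᵥ c) = ∑ i, c i • (Im b *ᵥ d i) := by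
      show gL (Im b *ᵥ c) = _
      rw [Im_mulVec, map_sum]
      refine Finset.sum_congr rfl fun i _ => ?_
      rw [map_smul, ← hd]
      rfl
    have h3 : M *ᵥ c = ∑ i, c i • d i := by
      ext i
      simp only [M, Matrix.mulVec, dotProduct, Matrix.of_apply, Finset.sum_apply, Pi.smul_apply, smul_eq_mul]
      exact Finset.sum_congr rfl fun j _ => mul_comm _ _
    rw [h2, h3, mulVec_sum]
    exact Finset.sum_congr rfl fun i _ => (mulVec_smul _ _ _).symm
  obtain ⟨C, hC, hCM⟩ := HermOrtho.exists_GU_of_isometry hF (M := M) (fun u v => by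
    rw [← herm_Im hF hb, ← hM, ← hM, hiso _ (hbA _) _ (hbA _), herm_Im hF hb])
  refine ⟨⟨C, hC⟩, fun c => ?_⟩
  rw [hM, sl_def, gm_def, ← hCM]
  rfl

theorem iter_C {b : Fin m → (Fin n → F)} {g : (Fin n → F) → (Fin n → F)} {C : GU m F q}
    (hC : ∀ c, g (Im b *ᵥ c) = Im b *ᵥ sl C 1 c) (k : ℕ) (c : Fin m → F) :
    g^[k] (Im b *ᵥ c) = Im b *ᵥ (sl C 1)^[k] c := by
  induction k with
  | zero => rfl
  | succ k ih => rw [Function.iterate_succ_apply', ih, hC, Function.iterate_succ_apply']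

end C

section ind

variable {G Ω : Type*} [Group G] [MulAction G Ω] {N : Subgroup G} {F : Type*} [Field F] [Fintype F] {n m q : ℕ}
  {U : UEnv G Ω N F n q} {b : Fin m → (Fin n → F)} {hb : ON q b}

theorem Rs.rho_eq_one {x : G} {f : (Fin n → F) → (Fin n → F)} {B : GU m F q} {ρ : F ≃+* F} (h : Rs U hb x f B ρ)
    (hl : Lin f) (hm : 0 < m) : ρ = 1 := by
  have he : (Pi.single (⟨0, hm⟩ : Fin m) (1 : F) : Fin m → F) ≠ 0 := by
    intro h1
    have h2 := congrFun h1 ⟨0, hm⟩
    rw [Pi.single_eq_same] at h2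
    exact one_ne_zero h2
  set e : Fin m → F := Pi.single ⟨0, hm⟩ 1 with hedef
  have hw : sl B ρ e ≠ 0 := by
    intro h1
    have h2 := h.eq e
    rw [h1, mulVec_zero, ← Ind.map_zero h.lft] at h2
    have h3 := Ind.injective h.lft h2
    apply he
    apply Im_injective hb
    change Im b *ᵥ e = Im b *ᵥ 0
    rw [h3, mulVec_zero]
  apply RingEquiv.ext
  intro a
  have h1 : Im b *ᵥ (ρ a • sl B ρ e) = Im b *ᵥ (a • sl B ρ e) := by
    rw [← sl_smul, ← h.eq, mulVec_smul, hl, h.eq, mulVec_smul]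
  have h2 : ρ a • sl B ρ e = a • sl B ρ e := Im_injective hb h1
  have h3 : (ρ a - a) • sl B ρ e = 0 := by rw [sub_smul, h2, sub_self]
  rcases smul_eq_zero.1 h3 with h4 | h4
  · exact sub_eq_zero.1 h4
  · exact absurd h4 hw

/-- `x` induces a power of `toAut C 1` -/
theorem Rs.induces (hmn : m < n) {x : G} {f : (Fin n → F) → (Fin n → F)} {B : GU m F q}
    {ρ : F ≃+* F} (h : Rs U hb x f B ρ) {C : GU m F q} {σ : F ≃+* F} {c : F} {k : ℕ}
    (hk : ∀ v, sl B ρ v = c • (sl C σ)^[k] v) (y y' : MM U hb) (hy : (y' : G) = x * y * x⁻¹) :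
    (toAut C σ ^ (k : ℤ)) (pi U hb hmn y) = pi U hb hmn y' := by
  obtain ⟨_, a, rfl⟩ := y
  have h1 : y' = ⟨ph U hb (semiConj B ρ a), ph_mem U hb _⟩ := Subtype.ext (by rw [hy]; exact h.semi a)
  rw [h1, zpow_natCast]
  change (toAut C σ ^ k) (pi U hb hmn ⟨ph U hb a, ph_mem U hb a⟩) = _
  rw [pi_ph, pi_ph, toAut_pow_pr, semiConj_eq_pow hk]

/-- linear elements commuting with `SU(A)` are scalars on `A` -/
theorem scalar_of_comm' (hm : 2 ≤ m) (hmn : m < n) {x : G} {f : (Fin n → F) → (Fin n → F)} (hx : U.Lft x f)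
    (hl : Lin f) (hA : ∀ i, ∃ c : Fin m → F, f (b i) = Im b *ᵥ c) (hc : ∀ y ∈ MM U hb, x * y = y * x) :
    ∃ c : F, ∀ d, f (Im b *ᵥ d) = c • (Im b *ᵥ d) := by
  rcases Nat.lt_or_ge 2 m with h3 | h3
  · exact scalar_of_comm U hb h3 hmn hx hA hc
  · have hm2 : m = 2 := by omega
    subst hm2
    obtain ⟨B, ρ, h⟩ := exists_rs U hb hx hA
    have hρ := h.rho_eq_one hl two_pos
    subst hρ
    have h1 : ∀ a, semiConj B 1 a = a := by
      intro a
      apply ph_injective U hb hmn
      rw [← h.semi, hc _ (ph_mem U hb a), mul_inv_cancel_right]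
    obtain ⟨c, hc⟩ := scalar_two U.hF h1
    refine ⟨c, fun d => ?_⟩
    rw [h.eq, hc, mulVec_smul]

end ind

/-- **Box E4g (general DEC)** -/
theorem gdec_main : GDecStmt := by
  intro G Ω _ _ _ _ _ N F _ _ n q U ι _ x f hfam hcov A g hA hAtop hA2 hA32 hA23 hst hsc hadd hlin hgst hiso hpow
    halt
  obtain ⟨b, hb, hbA, hAb⟩ := exists_basis U.hF hA rfl
  have hmn : finrank F A < n := by
    have h1 := Submodule.finrank_lt hAtop
    rwa [finrank_fin_fun] at h1
  have hbi : ∀ i, b i ∈ A := by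
    intro i
    have h1 := hbA (Pi.single i 1)
    rwa [Im_mulVec, Finset.sum_eq_single i, Pi.single_eq_same, one_smul] at h1
    · intro k _ hk
      rw [Pi.single_eq_of_ne hk, zero_smul]
    · intro h
      exact absurd (Finset.mem_univ i) h
  have hinv : ∀ i j, ∃ c, f i (b j) = Im b *ᵥ c := fun i j => hAb _ ((hst i).2 _ (hbi j))
  obtain ⟨C, hC⟩ := exists_C U.hF hb hbA hAb hadd hlin hgst hiso
  have hxc : ∀ i j, x i * x j = x j * x i := by
    intro i j
    refine (UEnv.Lft.mul (hfam.lft i) (hfam.lft j)).inj ?_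
    have h1 := UEnv.Lft.mul (hfam.lft j) (hfam.lft i)
    have h2 : (fun v => f i (f j v)) = fun v => f j (f i v) := funext (hfam.comm i j)
    rwa [h2]
  -- `SU(A)`
  have hfacts : IsSimpleGroup (PSU (finrank F A) F q) ∧ ¬ IsMulCommutative (PSU (finrank F A) F q) ∧
      commutator (SU (finrank F A) F q) = ⊤ := by
    rcases Nat.lt_or_ge 2 (finrank F A) with h3 | h3
    · have h4 := LieClassical.HermPerfect.commutator_SU_eq_top U.hF h3 hA32
      exact ⟨LieClassical.HermSimple.isSimpleGroup_of_perfect U.hF h3 h4, Cfsg.Agent.H189.SN.psu_nc U.hF h3 hA32, h4⟩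
    · have hm2 : finrank F A = 2 := by omega
      have hq : 4 ≤ q := by
        by_contra hq
        exact hA23 ⟨hm2, by omega⟩
      rw [hm2]
      exact ⟨simple_two U.hF hq, nc_two U.hF hq, comm_two U.hF hq⟩
  obtain ⟨hS, hSn, hperf⟩ := hfacts
  have hRC : H106.RC.RCe (PSU (finrank F A) F q) (toAut C 1) := by
    rcases halt with ⟨-, h⟩ | ⟨h, h'⟩ | ⟨r, k, hr, c, hc⟩
    · exact h _
    · have h1 := rc_two U.hF h'
      have h2 : ∀ m, m = 2 → H106.RC.RC (PSU m F q) := by
        rintro m rfl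
        exact h1
      exact h2 _ h _
    · have h1 : toAut C 1 ^ (r ^ k) = 1 := by
        by_cases hc0 : c = 0
        · exfalso
          obtain ⟨v, hv, hv0⟩ : ∃ v ∈ A, v ≠ 0 := by
            have h2 : A ≠ ⊥ := by
              rintro rfl
              rw [finrank_bot] at hA2
              omega
            exact (Submodule.ne_bot_iff A).1 h2
          have hz : ∀ (j : ℕ), ∀ w ∈ A, g^[j] w = 0 → w = 0 := by
            intro j
            induction j with
            | zero => intro w _ h; exact h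
            | succ j ih =>
              intro w hw h
              rw [Function.iterate_succ_apply] at h
              have h2 := ih _ (hgst w hw) h
              apply hA w hw
              intro u hu
              rw [← hiso w hw u hu, h2, herm_zero_left]
          exact hv0 (hz _ v hv (by rw [hc v hv, hc0, zero_smul]))
        · apply toAut_pow_eq_one (c := c⁻¹)
          intro v
          apply Im_injective hb
          change Im b *ᵥ v = Im b *ᵥ (c⁻¹ • (sl C 1)^[r ^ k] v)
          rw [mulVec_smul, ← iter_C hC, hc _ (hbA v), smul_smul, inv_mul_cancel₀ hc0, one_smul]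
      obtain ⟨j, -, hj⟩ := (Nat.dvd_prime_pow hr).1 (orderOf_dvd_of_pow_eq_one h1)
      exact H106.RC.rce_of_prime_pow hS _ hr hj
  refine dec_of rootStmt U x f hfam.ne hfam.lft hxc hb hA2 (fun i hi => ?_) (fun ω => ?_)
  · obtain ⟨c, hc⟩ := scalar_of_comm' hA2 hmn (hfam.lft i) (hst i).1 (hinv i) hi
    refine ⟨⟨c, hc⟩, hsc i ⟨c, fun v hv => ?_⟩⟩
    obtain ⟨d, rfl⟩ := hAb v hv
    exact hc d
  · refine mrule_ab hS hSn x hxc (MM U hb) (MM_perf U hb hperf) (pi U hb hmn) (pi_surjective U hb hmn)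
      (pi_ker U hb hmn) (fun i => mem_normalizer U hb (hfam.lft i) (hinv i)) (toAut C 1) (fun i => ?_) hRC ω
      (fun m _ => hcov _)
    obtain ⟨B, ρ, hB⟩ := exists_rs U hb (hfam.lft i) (hinv i)
    have hρ := hB.rho_eq_one (hst i).1 (by omega)
    subst hρ
    obtain ⟨k, c, hk⟩ := hpow i
    refine ⟨k, fun y y' hy => hB.induces hmn (c := c) (fun v => ?_) y y' hy⟩
    apply Im_injective hb
    change Im b *ᵥ sl B 1 v = Im b *ᵥ (c • (sl C 1)^[k] v)
    rw [← hB.eq, hk _ (hbA v), iter_C hC, mulVec_smul]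

end Cfsg.Agent.H452.RC
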