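import Cfsg.Agent.H452.RC.SUTwo
import Cfsg.Agent.LieClassical.SLGen

/-!
# Transitivity of `SL_d(F)`, `d ≥ 2` (helper452)

* `exists_phi` : values of a functional at two independent vectors; `tv u φ` : the transvection `1 + u φᵀ`, `φ u = 0`;
* `exists_sl_map` : independent vectors are conjugate; `exists_sl_move` : `a c = c`, `a e = e + c`;
* `sl_perf` : `SL_d(F)` is perfect, `d ≥ 2`, `|F| ≥ 4`; `det_hom_eq_one`.
-/

set_option autoImplicit false
set_option linter.unusedSectionVars false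

namespace Cfsg.Agent.H452.RC

open Matrix Cfsg Module

variable {F : Type*} [Field F] {d : ℕ}

theorem exists_phi0 {c e : Fin d → F} (h : ∀ a : F, e ≠ a • c) : ∃ φ : Fin d → F, φ ⬝ᵥ c = 0 ∧ φ ⬝ᵥ e = 1 := by
  have h1 : e ∉ Submodule.span F {c} := by
    rw [Submodule.mem_span_singleton]
    rintro ⟨a, ha⟩
    exact h a ha.symm
  obtain ⟨L, hL, hLc⟩ := Submodule.exists_le_ker_of_notMem h1
  have hrep : ∀ v : Fin d → F, (fun i => L (Pi.single i 1)) ⬝ᵥ v = L v := by
    intro v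
    have h2 : v = ∑ i, v i • (Pi.single i 1 : Fin d → F) := by
      funext j
      rw [Finset.sum_apply, Finset.sum_eq_single j]
      · simp
      · intro b _ hb
        simp [hb.symm]
      · simp
    conv_rhs => rw [h2]
    rw [map_sum]
    exact Finset.sum_congr rfl fun i _ => by rw [map_smul, smul_eq_mul, mul_comm]
  have hc : L c = 0 := hLc (Submodule.mem_span_singleton_self c)
  refine ⟨(L e)⁻¹ • fun i => L (Pi.single i 1), ?_, ?_⟩
  · rw [smul_dotProduct, hrep, hc, smul_zero]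
  · rw [smul_dotProduct, hrep, smul_eq_mul, inv_mul_cancel₀ hL]

theorem indep_symm {c e : Fin d → F} (hc : c ≠ 0) (h : ∀ a : F, e ≠ a • c) (a : F) : c ≠ a • e := by
  intro h1
  by_cases ha : a = 0
  · exact hc (by rw [h1, ha, zero_smul])
  · apply h a⁻¹
    rw [h1, smul_smul, inv_mul_cancel₀ ha, one_smul]

/-- a functional with given values at two independent vectors -/
theorem exists_phi {c e : Fin d → F} (hc : c ≠ 0) (h : ∀ a : F, e ≠ a • c) (α β : F) :
    ∃ φ : Fin d → F, φ ⬝ᵥ c = α ∧ φ ⬝ᵥ e = β := by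
  obtain ⟨φ, h1, h2⟩ := exists_phi0 h
  obtain ⟨ψ, h3, h4⟩ := exists_phi0 (indep_symm hc h)
  refine ⟨α • ψ + β • φ, ?_, ?_⟩
  · rw [add_dotProduct, smul_dotProduct, smul_dotProduct, h1, h4, smul_zero, add_zero, smul_eq_mul, mul_one]
  · rw [add_dotProduct, smul_dotProduct, smul_dotProduct, h2, h3, smul_zero, zero_add, smul_eq_mul, mul_one]

/-- transvection -/
def tv (u φ : Fin d → F) (h : φ ⬝ᵥ u = 0) : Matrix.SpecialLinearGroup (Fin d) F :=
  ⟨1 + Matrix.replicateCol Unit u * Matrix.replicateRow Unit φ, by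
    rw [Matrix.det_one_add_replicateCol_mul_replicateRow, h, add_zero]⟩

theorem tv_mulVec (u φ : Fin d → F) (h : φ ⬝ᵥ u = 0) (v : Fin d → F) : (tv u φ h).1 *ᵥ v = v + (φ ⬝ᵥ v) • u := by
  show (1 + Matrix.replicateCol Unit u * Matrix.replicateRow Unit φ) *ᵥ v = _
  rw [add_mulVec, one_mulVec, ← mulVec_mulVec]
  congr 1
  funext i
  simp [Matrix.mulVec, dotProduct, mul_comm]

theorem exists_sl_map {c e : Fin d → F} (hc : c ≠ 0) (h : ∀ a : F, e ≠ a • c) :
    ∃ a : Matrix.SpecialLinearGroup (Fin d) F, a.1 *ᵥ c = e := by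
  obtain ⟨φ, h1, h2⟩ := exists_phi hc h 1 1
  refine ⟨tv (e - c) φ (by rw [dotProduct_sub, h1, h2, sub_self]), ?_⟩
  rw [tv_mulVec, h1, one_smul, add_sub_cancel]

theorem exists_sl_move {c e : Fin d → F} (h : ∀ a : F, e ≠ a • c) :
    ∃ a : Matrix.SpecialLinearGroup (Fin d) F, a.1 *ᵥ c = c ∧ a.1 *ᵥ e = e + c := by
  obtain ⟨φ, h1, h2⟩ := exists_phi0 h
  refine ⟨tv c φ h1, ?_, ?_⟩
  · rw [tv_mulVec, h1, zero_smul, add_zero]
  · rw [tv_mulVec, h2, one_smul]

/-- `SL_d(F)` is perfect -/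
theorem sl_perf [Fintype F] (hd : 2 ≤ d) (hF : 4 ≤ Fintype.card F) :
    ⁅(⊤ : Subgroup (Matrix.SpecialLinearGroup (Fin d) F)), (⊤ : Subgroup (Matrix.SpecialLinearGroup (Fin d) F))⁆ = ⊤ := by
  rw [← commutator_def]
  rcases Nat.lt_or_ge 2 d with h | h
  · exact LieClassical.SLGen.commutator_eq_top (by rw [Fintype.card_fin]; exact h)
  · have h2 : d = 2 := by omega
    subst h2
    exact sl_perfect hF

open scoped commutatorElement in
/-- a multiplicative function on a perfect group with values in a field is trivial -/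
theorem hom_eq_one {P : Type*} [Group P] (hP : ⁅(⊤ : Subgroup P), (⊤ : Subgroup P)⁆ = ⊤) (δ : P →* F) (p : P) :
    δ p = 1 := by
  have h3 : (⊤ : Subgroup P) ≤ (δ.toHomUnits).ker := by
    rw [← hP, Subgroup.commutator_le]
    intro a _ b _
    rw [MonoidHom.mem_ker, map_commutatorElement]
    exact commutatorElement_eq_one_iff_mul_comm.2 (mul_comm _ _)
  have h4 := h3 (Subgroup.mem_top p)
  rw [MonoidHom.mem_ker] at h4
  have h5 := congrArg Units.val h4
  exact h5

end Cfsg.Agent.H452.RC
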