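import Cfsg.Agent.H452.RC.SLWDb
import Cfsg.Agent.H452.RC.LiftComm
import Cfsg.Agent.H452.RC.SLTr

/-!
# S3510, family E: semilinear isometries preserving `{W, W'}` and the group `SL(W)` (helper452)

* `eq_kap` : an element of `SU` preserving `W`, `W'`, of determinant one on `W`, is in `SL(W)`;
* `norm_kap` : elements preserving or interchanging `W`, `W'` normalise `SL(W)`;
* `scal_of_comm` : a semilinear map preserving `W` which commutes with `SL(W)` is a scalar on `W`;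
* `herm_eq_zero` : a semilinear map `f` which commutes with `SL(W)` satisfies `h(w, f w) = 0`, `w ∈ W`;
* `scal_dual`, `comm_of_scal`.
-/

set_option autoImplicit false
set_option linter.unusedSectionVars false

namespace Cfsg.Agent.H452.RC

open Matrix Cfsg Module Cfsg.Agent.LieClassical.HermBasic Cfsg.Agent.LieClassical.HermSiegel
open Cfsg.Agent.H380.RC
open Cfsg.Agent.H189.SN (Im Pm Im_mulVec Pm_mulVec)

section stab

variable {F : Type*} [Field F] {n d q : ℕ} {b b' : Fin d → (Fin n → F)}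

theorem DB.inj1 (h : DB q b b') {c e : Fin d → F} (he : Im b *ᵥ c = Im b *ᵥ e) : c = e := by
  refine (h.inj (c' := 0) (e' := 0) ?_).1
  rw [he]

theorem DB.inj2 (h : DB q b b') {c e : Fin d → F} (he : Im b' *ᵥ c = Im b' *ᵥ e) : c = e := by
  refine (h.inj (c := 0) (e := 0) ?_).2
  rw [he]

/-- the matrix of `s` on `W` -/
def Rm (b b' : Fin d → (Fin n → F)) (s : SU n F q) : Matrix (Fin d) (Fin d) F := Pm q b' * mat s * Im b

theorem act_Rm (h : DB q b b') {s : SU n F q} (hs : ∀ c, ∃ c₁, act s (Im b *ᵥ c) = Im b *ᵥ c₁) (c : Fin d → F) :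
    act s (Im b *ᵥ c) = Im b *ᵥ (Rm b b' s *ᵥ c) := by
  obtain ⟨c₁, hc₁⟩ := hs c
  have h1 : Rm b b' s *ᵥ c = c₁ := by
    have h2 : Rm b b' s *ᵥ c = Pm q b' *ᵥ act s (Im b *ᵥ c) := by
      unfold Rm
      rw [← mulVec_mulVec, ← mulVec_mulVec]
      rfl
    have h3 := h.coord c₁ 0
    rw [mulVec_zero, add_zero] at h3
    rw [h2, hc₁, h3]
  rw [h1, hc₁]

variable {P : Type*} [Group P]

/-- the restriction of a homomorphism -/
def rmHom (h : DB q b b') (S : P →* SU n F q) (hS : ∀ p c, ∃ c₁, act (S p) (Im b *ᵥ c) = Im b *ᵥ c₁) :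
    P →* Matrix (Fin d) (Fin d) F where
  toFun p := Rm b b' (S p)
  map_one' := by
    unfold Rm
    rw [map_one, mat_one, Matrix.mul_one, h.m1]
  map_mul' p p' := by
    apply ext_of_mulVec_single
    intro i
    apply h.inj1
    rw [← act_Rm h (hS _), map_mul, act_mul, act_Rm h (hS _), act_Rm h (hS _), mulVec_mulVec (Pi.single i 1)]

theorem det_Rm (hP : ⁅(⊤ : Subgroup P), (⊤ : Subgroup P)⁆ = ⊤) (h : DB q b b') (S : P →* SU n F q)
    (hS : ∀ p c, ∃ c₁, act (S p) (Im b *ᵥ c) = Im b *ᵥ c₁) (p : P) : (Rm b b' (S p)).det = 1 :=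
  hom_eq_one hP (Matrix.detMonoidHom.comp (rmHom h S hS)) p

variable [Fintype F]

/-- an element of `SU` preserving `W`, `W'`, of determinant one on `W`, is in `SL(W)` -/
theorem eq_kap (hF : Fintype.card F = q ^ 2) (h : DB q b b') {s : SU n F q}
    (h1 : ∀ c, ∃ c₁, act s (Im b *ᵥ c) = Im b *ᵥ c₁) (h2 : ∀ c, ∃ c₁, act s (Im b' *ᵥ c) = Im b' *ᵥ c₁)
    (hdet : (Rm b b' s).det = 1) : s = kap hF h ⟨Rm b b' s, hdet⟩ := by
  set a : Matrix.SpecialLinearGroup (Fin d) F := ⟨Rm b b' s, hdet⟩ with ha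
  have hW : ∀ c, act s (Im b *ᵥ c) = act (kap hF h a) (Im b *ᵥ c) := by
    intro c
    rw [act_Rm h h1, act_kap_W]
  have hW' : ∀ c, act s (Im b' *ᵥ c) = act (kap hF h a) (Im b' *ᵥ c) := by
    intro c
    obtain ⟨c₁, hc₁⟩ := h2 c
    rw [hc₁, act_kap_W']
    congr 1
    have h3 : ∀ e : Fin d → F, hermForm n F q (Im b' *ᵥ c₁) (Im b *ᵥ e) =
        hermForm n F q (Im b' *ᵥ (ai hF a *ᵥ c)) (Im b *ᵥ e) := by
      intro e
      have h4 : e = a.1 *ᵥ ((a⁻¹ : Matrix.SpecialLinearGroup (Fin d) F).1 *ᵥ e) := by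
        rw [mulVec_mulVec, ← Matrix.SpecialLinearGroup.coe_mul, mul_inv_cancel, Matrix.SpecialLinearGroup.coe_one,
          one_mulVec]
      rw [h4, ← act_kap_W hF h, ← act_kap_W' hF h, herm_act, ← hW, ← hc₁, herm_act]
    funext i
    have h5 := h3 (Pi.single i 1)
    have h6 := h.herm hF 0 c₁ (Pi.single i 1) 0
    have h7 := h.herm hF 0 (ai hF a *ᵥ c) (Pi.single i 1) 0
    simp only [mulVec_zero, zero_add, add_zero, zero_dotProduct, Pi.zero_apply, map_zero] at h6 h7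
    rw [h6, h7] at h5
    have h8 : (fun j => conj hF ((Pi.single i (1 : F) : Fin d → F) j)) = Pi.single i 1 := by
      funext j
      by_cases hij : j = i
      · subst hij
        rw [Pi.single_eq_same, map_one]
      · rw [Pi.single_eq_of_ne hij, map_zero]
    rw [h8, dotProduct_single, dotProduct_single, mul_one, mul_one] at h5
    exact h5
  apply ext_act
  intro v
  obtain ⟨c, c', rfl⟩ := h.span v
  rw [act_add, act_add, hW, hW']

end stab

section norm

variable {G Ω : Type*} [Group G] [MulAction G Ω] {N : Subgroup G} {F : Type*} [Field F] [Fintype F] {n d q : ℕ}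
  {U : UEnv G Ω N F n q} {b b' : Fin d → (Fin n → F)}

/-- an injective map between finite spaces -/
theorem exists_pre {u w : Fin d → (Fin n → F)} (hu : ∀ c e, Im u *ᵥ c = Im u *ᵥ e → c = e)
    {f : (Fin n → F) → (Fin n → F)} (hf : Function.Injective f) (hfu : ∀ c, ∃ c₁, f (Im u *ᵥ c) = Im w *ᵥ c₁)
    (c : Fin d → F) : ∃ e, f (Im u *ᵥ e) = Im w *ᵥ c := by
  choose g hg using hfu
  have h1 : Function.Injective g := by
    intro c e hce
    apply hu
    apply hf
    rw [hg, hg, hce]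
  obtain ⟨e, he⟩ := (Finite.injective_iff_surjective.1 h1) c
  exact ⟨e, by rw [hg, he]⟩

/-- elements preserving or interchanging `W`, `W'` normalise `SL(W)` -/
theorem norm_kap (hd : 2 ≤ d) (h : DB q b b') {x : G} {f : (Fin n → F) → (Fin n → F)} (hx : U.Lft x f)
    (hf : ((∀ c, ∃ c₁, f (Im b *ᵥ c) = Im b *ᵥ c₁) ∧ ∀ c, ∃ c₁, f (Im b' *ᵥ c) = Im b' *ᵥ c₁) ∨
      ((∀ c, ∃ c₁, f (Im b *ᵥ c) = Im b' *ᵥ c₁) ∧ ∀ c, ∃ c₁, f (Im b' *ᵥ c) = Im b *ᵥ c₁))
    (p : Matrix.SpecialLinearGroup (Fin d) F) :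
    ∃ p', x * U.el (kap U.hF h p) * x⁻¹ = U.el (kap U.hF h p') := by
  have hF4 : 4 ≤ Fintype.card F := by
    rw [U.hF]
    have := two_le U.hF
    nlinarith
  obtain ⟨S, hS⟩ := exists_conj_hom (kap U.hF h) hx
  have hinj := Ind.injective hx
  have key : ∀ u w : Fin d → (Fin n → F), (∀ c e, Im u *ᵥ c = Im u *ᵥ e → c = e) →
      (∀ c, ∃ c₁, f (Im u *ᵥ c) = Im w *ᵥ c₁) →
      (∀ p c, ∃ c₁, act (kap U.hF h p) (Im u *ᵥ c) = Im u *ᵥ c₁) →
      ∀ p c, ∃ c₁, act (S p) (Im w *ᵥ c) = Im w *ᵥ c₁ := by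
    intro u w hu hfu hk p c
    obtain ⟨e, he⟩ := exists_pre hu hinj hfu c
    obtain ⟨e', he'⟩ := hk p e
    rw [← he, ← hS, he']
    exact hfu e'
  have k1 : ∀ p c, ∃ c₁, act (kap U.hF h p) (Im b *ᵥ c) = Im b *ᵥ c₁ := fun p c => ⟨_, act_kap_W U.hF h p c⟩
  have k2 : ∀ p c, ∃ c₁, act (kap U.hF h p) (Im b' *ᵥ c) = Im b' *ᵥ c₁ := fun p c => ⟨_, act_kap_W' U.hF h p c⟩
  have hSW : (∀ p c, ∃ c₁, act (S p) (Im b *ᵥ c) = Im b *ᵥ c₁) ∧ ∀ p c, ∃ c₁, act (S p) (Im b' *ᵥ c) = Im b' *ᵥ c₁ := by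
    rcases hf with ⟨h1, h2⟩ | ⟨h1, h2⟩
    · exact ⟨key b b (fun c e => h.inj1) h1 k1, key b' b' (fun c e => h.inj2) h2 k2⟩
    · exact ⟨key b' b (fun c e => h.inj2) h2 k2, key b b' (fun c e => h.inj1) h1 k1⟩
  have hdet := det_Rm (sl_perf hd hF4) h S hSW.1 p
  refine ⟨⟨_, hdet⟩, ?_⟩
  rw [← eq_kap U.hF h (hSW.1 p) (hSW.2 p) hdet]
  exact hx.conj_el (hS p)

end norm

section comm

variable {F : Type*} [Field F] [Fintype F] {n d q : ℕ} {b b' : Fin d → (Fin n → F)} {f : (Fin n → F) → (Fin n → F)}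

theorem exists_indep (hd : 2 ≤ d) (c : Fin d → F) : ∃ e : Fin d → F, ∀ a : F, e ≠ a • c := by
  let i : Fin d := ⟨0, by omega⟩
  let j : Fin d := ⟨1, by omega⟩
  have hij : i ≠ j := by
    intro h
    have := congrArg Fin.val h
    simp [i, j] at this
  by_contra hcon
  push Not at hcon
  obtain ⟨a, ha⟩ := hcon (Pi.single i 1)
  obtain ⟨a', ha'⟩ := hcon (Pi.single j 1)
  have e1 := congrFun ha i
  have e2 := congrFun ha j
  have e3 := congrFun ha' i
  have e4 := congrFun ha' j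
  rw [Pi.single_eq_same, Pi.smul_apply, smul_eq_mul] at e1 e4
  rw [Pi.single_eq_of_ne hij.symm, Pi.smul_apply, smul_eq_mul] at e2
  rcases mul_eq_zero.1 e2.symm with h | h
  · rw [h, zero_mul] at e1
    exact one_ne_zero e1
  · rw [h, mul_zero] at e4
    exact one_ne_zero e4

/-- a semilinear map preserving `W` which commutes with `SL(W)` is a scalar on `W` -/
theorem scal_of_comm (hF : Fintype.card F = q ^ 2) (hd : 2 ≤ d) (h : DB q b b')
    (hadd : ∀ v w, f (v + w) = f v + f w)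
    (hcomm : ∀ a v, f (act (kap hF h a) v) = act (kap hF h a) (f v)) (hst : ∀ c, ∃ c₁, f (Im b *ᵥ c) = Im b *ᵥ c₁) :
    ∃ l : F, ∀ c, f (Im b *ᵥ c) = l • (Im b *ᵥ c) := by
  have hf0 : f 0 = 0 := by
    have := hadd 0 0
    rw [add_zero] at this
    simpa using this
  choose g hg using hst
  have hgadd : ∀ c e, g (c + e) = g c + g e := by
    intro c e
    apply h.inj1
    rw [← hg, mulVec_add, mulVec_add, hadd, hg, hg]
  have h1 : ∀ c, ∃ l : F, g c = l • c := by
    intro c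
    by_contra hcon
    push Not at hcon
    obtain ⟨a, ha1, ha2⟩ := exists_sl_move hcon
    have h2 := hcomm a (Im b *ᵥ c)
    rw [act_kap_W, ha1, hg, act_kap_W, ha2] at h2
    have h3 := h.inj1 h2
    have h4 : c = 0 := by
      have h5 : g c + 0 = g c + c := by rw [add_zero]; exact h3
      exact (add_left_cancel h5).symm
    apply hcon 0
    rw [zero_smul]
    apply h.inj1
    rw [← hg, h4, mulVec_zero, hf0]
  choose l hl using h1
  have h2 : ∀ c e : Fin d → F, c ≠ 0 → (∀ a : F, e ≠ a • c) → l c = l e := by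
    intro c e hc hce
    have h3 := hgadd c e
    rw [hl, hl, hl, smul_add] at h3
    have h4 : (l (c + e) - l e) • e = (l c - l (c + e)) • c := by
      rw [sub_smul, sub_smul, sub_eq_sub_iff_add_eq_add, add_comm (l (c + e) • e), h3]
    have h5 : l (c + e) - l e = 0 := by
      by_contra h6
      apply hce ((l (c + e) - l e)⁻¹ * (l c - l (c + e)))
      rw [mul_smul, ← h4, smul_smul, inv_mul_cancel₀ h6, one_smul]
    rw [h5, zero_smul] at h4
    rcases smul_eq_zero.1 h4.symm with h6 | h6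
    · rw [← sub_eq_zero.1 h5, sub_eq_zero.1 h6]
    · exact absurd h6 hc
  obtain ⟨u, hu⟩ := exists_indep hd (0 : Fin d → F)
  have hu0 : u ≠ 0 := by
    have := hu 0
    rwa [zero_smul] at this
  obtain ⟨w, hw⟩ := exists_indep hd u
  have hw0 : w ≠ 0 := by
    have := hw 0
    rwa [zero_smul] at this
  refine ⟨l u, fun c => ?_⟩
  rw [hg, hl, mulVec_smul]
  by_cases hc : c = 0
  · rw [hc, mulVec_zero, smul_zero, smul_zero]
  · congr 1
    by_cases h3 : ∀ a : F, c ≠ a • u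
    · exact (h2 u c hu0 h3).symm
    · push Not at h3
      obtain ⟨a, ha⟩ := h3
      -- `c` is a multiple of `u`, so independent of `w`
      have h4 : ∀ a' : F, w ≠ a' • c := by
        intro a' h5
        apply hw (a' * a)
        rw [h5, ha, smul_smul]
      rw [h2 c w hc h4, h2 u w hu0 hw]

/-- a semilinear map `f` which commutes with `SL(W)` satisfies `h(w, f w) = 0`, `w ∈ W` -/
theorem herm_eq_zero (hF : Fintype.card F = q ^ 2) (hd : 2 ≤ d) (h : DB q b b')
    (hadd : ∀ v w, f (v + w) = f v + f w)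
    (hcomm : ∀ a v, f (act (kap hF h a) v) = act (kap hF h a) (f v)) (c : Fin d → F) :
    hermForm n F q (Im b *ᵥ c) (f (Im b *ᵥ c)) = 0 := by
  have hf0 : f 0 = 0 := by
    have := hadd 0 0
    rw [add_zero] at this
    simpa using this
  set Q : (Fin d → F) → F := fun c => hermForm n F q (Im b *ᵥ c) (f (Im b *ᵥ c)) with hQ
  show Q c = 0
  have h1 : ∀ (a : Matrix.SpecialLinearGroup (Fin d) F) c, Q (a.1 *ᵥ c) = Q c := by
    intro a c
    simp only [hQ]
    rw [← act_kap_W hF h, hcomm, herm_act]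
  have h2 : ∀ c e : Fin d → F, c ≠ 0 → (∀ a : F, e ≠ a • c) → Q e = Q c := by
    intro c e hc hce
    obtain ⟨a, ha⟩ := exists_sl_map hc hce
    rw [← ha, h1]
  by_contra h0
  have hc0 : c ≠ 0 := by
    rintro rfl
    apply h0
    simp only [hQ]
    rw [mulVec_zero, herm_zero_left]
  obtain ⟨w, hw⟩ := exists_indep hd c
  have hw0 : w ≠ 0 := by
    have := hw 0
    rwa [zero_smul] at this
  have h3 : ∀ e, e ≠ 0 → Q e = Q c := by
    intro e he
    by_cases h4 : ∀ a : F, e ≠ a • c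
    · exact h2 c e hc0 h4
    · push Not at h4
      obtain ⟨a, ha⟩ := h4
      have h5 : ∀ a' : F, w ≠ a' • e := by
        intro a' h6
        apply hw (a' * a)
        rw [h6, ha, smul_smul]
      rw [← h2 e w he h5, h2 c w hc0 hw]
  set S : (Fin d → F) → F := fun u => hermForm n F q (Im b *ᵥ u) (f (Im b *ᵥ c)) +
    hermForm n F q (Im b *ᵥ c) (f (Im b *ᵥ u)) with hS
  have hSadd : ∀ u v, S (u + v) = S u + S v := by
    intro u v
    simp only [hS]
    rw [mulVec_add, hadd, herm_add_left, herm_add_right hF]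
    ring
  have hSval : ∀ a : F, a ≠ 0 → S (a • w) = -Q c := by
    intro a ha
    have e1 : a • w ≠ 0 := smul_ne_zero ha hw0
    have e2 : a • w + c ≠ 0 := by
      intro h5
      apply hw (-a⁻¹)
      have h6 : a • w = -c := eq_neg_of_add_eq_zero_left h5
      have h7 : a⁻¹ • (a • w) = a⁻¹ • (-c) := by rw [h6]
      rw [smul_smul, inv_mul_cancel₀ ha, one_smul] at h7
      rw [h7, smul_neg, neg_smul]
    have e3 : Q (a • w + c) = Q (a • w) + Q c + S (a • w) := by
      simp only [hQ, hS]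
      rw [mulVec_add, hadd, herm_add_left, herm_add_right hF, herm_add_right hF]
      ring
    rw [h3 _ e2, h3 _ e1] at e3
    linear_combination -e3
  have hF4 : 4 ≤ Fintype.card F := by
    rw [hF]
    have := two_le hF
    nlinarith
  obtain ⟨μ, hμ0, hμ1⟩ : ∃ μ : F, μ ≠ 0 ∧ 1 + μ ≠ 0 := by
    classical
    have h5 : ({0, -1} : Finset F).card < (Finset.univ : Finset F).card := by
      rw [Finset.card_univ]
      exact lt_of_le_of_lt Finset.card_le_two (by omega)
    obtain ⟨μ, hμ⟩ := Finset.exists_mem_notMem_of_card_lt_card h5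
    have h6 := hμ.2
    simp only [Finset.mem_insert, Finset.mem_singleton, not_or] at h6
    exact ⟨μ, h6.1, fun h7 => h6.2 (by linear_combination h7)⟩
  have k1 := hSval 1 one_ne_zero
  have k2 := hSval μ hμ0
  have k3 := hSval (1 + μ) hμ1
  rw [add_smul, hSadd, k1, k2] at k3
  apply h0
  linear_combination -k3

/-- a semilinear isometry which is a scalar on `W` and preserves `W'` is a scalar on `W'` -/
theorem scal_dual (hF : Fintype.card F = q ^ 2) (hd : 0 < d) (h : DB q b b') (hinj : Function.Injective f) {ρ : F ≃+* F}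
    (hs : ∀ (a : F) v, f (a • v) = ρ a • f v) (hh : ∀ u v, hermForm n F q (f u) (f v) = ρ (hermForm n F q u v))
    {l : F} (hl : ∀ c, f (Im b *ᵥ c) = l • (Im b *ᵥ c)) (hst : ∀ c, ∃ c₁, f (Im b' *ᵥ c) = Im b' *ᵥ c₁) :
    ∃ l' : F, l * l' ^ q = 1 ∧ (∀ c, f (Im b' *ᵥ c) = l' • (Im b' *ᵥ c)) ∧ ∀ a, ρ a = a := by
  have he0 : (Pi.single (⟨0, hd⟩ : Fin d) (1 : F) : Fin d → F) ≠ 0 := by
    intro h1
    have h2 := congrFun h1 ⟨0, hd⟩
    rw [Pi.single_eq_same] at h2
    exact one_ne_zero h2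
  set e0 : Fin d → F := Pi.single ⟨0, hd⟩ 1
  have hf0 : f 0 = 0 := by
    have := hs 0 0
    rwa [zero_smul, map_zero, zero_smul] at this
  have hl0 : l ≠ 0 := by
    rintro rfl
    have h1 := hl e0
    rw [zero_smul, ← hf0] at h1
    apply he0
    apply h.inj1
    rw [hinj h1, mulVec_zero]
  have hρ : ∀ a, ρ a = a := by
    intro a
    have h1 := hl (a • e0)
    rw [mulVec_smul, hs, hl, smul_smul, smul_smul, ← mulVec_smul, ← mulVec_smul] at h1
    have h2 := congrFun (h.inj1 h1) ⟨0, hd⟩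
    simp only [e0, Pi.smul_apply, Pi.single_eq_same, smul_eq_mul, mul_one] at h2
    rw [mul_comm] at h2
    exact mul_left_cancel₀ hl0 h2
  refine ⟨(l⁻¹) ^ q, by rw [pow_q_pow_q hF, mul_inv_cancel₀ hl0], fun c => ?_, hρ⟩
  obtain ⟨c₁, hc₁⟩ := hst c
  rw [hc₁, ← mulVec_smul]
  congr 1
  funext i
  have h1 := hh (Im b *ᵥ Pi.single i 1) (Im b' *ᵥ c)
  rw [hρ, hl, hc₁, herm_smul_left] at h1
  have h6 := h.herm hF (Pi.single i 1) 0 0 c₁
  have h7 := h.herm hF (Pi.single i 1) 0 0 c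
  simp only [mulVec_zero, zero_add, add_zero, zero_dotProduct, single_dotProduct, one_mul] at h6 h7
  rw [h6, h7] at h1
  have h8 : conj hF (c₁ i) = l⁻¹ * conj hF (c i) := by
    rw [← h1, ← mul_assoc, inv_mul_cancel₀ hl0, one_mul]
  have h9 := congrArg (conj hF) h8
  rw [map_mul] at h9
  simp only [conj_apply, pow_q_pow_q hF] at h9
  rw [h9, Pi.smul_apply, smul_eq_mul]

end comm

end Cfsg.Agent.H452.RC
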