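import Cfsg.Agent.H380.RC.Point
import Cfsg.Agent.H380.RC.EStmt
import Cfsg.Agent.H380.RC.MAb
import Cfsg.Agent.H189.SN.Sec

/-!
# S3510, family E (unitary groups): `SL(W)` acting on `V = W ⊕ W'`, `W`, `W'` totally singular (helper452)

* `DB q b b'` : dual bases of `W`, `W'`; `exists_db`;
* `kap hF hb : SL (Fin d) F →* SU n F q`; `act_kap`, `act_kap_W`, `act_kap_W'`.
-/

set_option autoImplicit false
set_option linter.unusedSectionVars false

namespace Cfsg.Agent.H452.RC

open Matrix Cfsg Module Cfsg.Agent.LieClassical.HermBasic Cfsg.Agent.LieClassical.HermSiegel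
  Cfsg.Agent.LieClassical.HermGen Cfsg.Agent.LieClassical.SUBasic Cfsg.Agent.ClassicalGeometry.PSUAutBasic
  Cfsg.Agent.ClassicalGeometry.PSUAutCount Cfsg.Agent.LieClassical.FieldTransfer Cfsg.Agent.ClassicalGeometry
open Cfsg.Agent.H380.RC
open Cfsg.Agent.H189.SN (Im Pm Im_mulVec Pm_mulVec)

section

variable {F : Type*} [Field F] {n d q : ℕ}

/-- dual bases of two complementary totally singular subspaces -/
structure DB (q : ℕ) (b b' : Fin d → (Fin n → F)) : Prop where
  bb : ∀ i j, hermForm n F q (b i) (b j) = 0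
  bb' : ∀ i j, hermForm n F q (b' i) (b' j) = 0
  du : ∀ i j, hermForm n F q (b i) (b' j) = if i = j then 1 else 0
  du' : ∀ i j, hermForm n F q (b' i) (b j) = if i = j then 1 else 0
  span : ∀ v, ∃ c c' : Fin d → F, v = Im b *ᵥ c + Im b' *ᵥ c'

theorem Pm_mul_Im (b b' : Fin d → (Fin n → F)) (i j : Fin d) : (Pm q b' * Im b) i j = hermForm n F q (b j) (b' i) := by
  have h1 : (Pm q b' * Im b) i j = (Pm q b' *ᵥ b j) i := rfl
  rw [h1, Pm_mulVec]

variable {b b' : Fin d → (Fin n → F)}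

namespace DB

theorem m1 (h : DB q b b') : Pm q b' * Im b = 1 := by
  ext i j
  rw [Pm_mul_Im, h.du, Matrix.one_apply]
  simp only [eq_comm]

theorem m2 (h : DB q b b') : Pm q b' * Im b' = 0 := by
  ext i j
  rw [Pm_mul_Im, h.bb']
  rfl

theorem m3 (h : DB q b b') : Pm q b * Im b = 0 := by
  ext i j
  rw [Pm_mul_Im, h.bb]
  rfl

theorem m4 (h : DB q b b') : Pm q b * Im b' = 1 := by
  ext i j
  rw [Pm_mul_Im, h.du', Matrix.one_apply]
  simp only [eq_comm]

theorem coord (h : DB q b b') (c c' : Fin d → F) : Pm q b' *ᵥ (Im b *ᵥ c + Im b' *ᵥ c') = c := by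
  rw [mulVec_add, mulVec_mulVec, mulVec_mulVec, h.m1, h.m2, one_mulVec, zero_mulVec, add_zero]

theorem coord' (h : DB q b b') (c c' : Fin d → F) : Pm q b *ᵥ (Im b *ᵥ c + Im b' *ᵥ c') = c' := by
  rw [mulVec_add, mulVec_mulVec, mulVec_mulVec, h.m3, h.m4, one_mulVec, zero_mulVec, zero_add]

theorem m5 (h : DB q b b') : Im b * Pm q b' + Im b' * Pm q b = 1 := by
  apply ext_of_mulVec_single
  intro i
  obtain ⟨c, c', hc⟩ := h.span (Pi.single i 1)
  rw [hc, add_mulVec, ← mulVec_mulVec, ← mulVec_mulVec, h.coord, h.coord', one_mulVec]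

theorem inj (h : DB q b b') {c c' e e' : Fin d → F} (he : Im b *ᵥ c + Im b' *ᵥ c' = Im b *ᵥ e + Im b' *ᵥ e') :
    c = e ∧ c' = e' := by
  constructor
  · rw [← h.coord c c', he, h.coord]
  · rw [← h.coord' c c', he, h.coord']

end DB

variable [Fintype F]

/-- the form in coordinates -/
theorem DB.herm (hF : Fintype.card F = q ^ 2) (h : DB q b b') (c c' e e' : Fin d → F) :
    hermForm n F q (Im b *ᵥ c + Im b' *ᵥ c') (Im b *ᵥ e + Im b' *ᵥ e') =
      c ⬝ᵥ (fun i => conj hF (e' i)) + c' ⬝ᵥ (fun i => conj hF (e i)) := by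
  have k : ∀ (u : Fin d → (Fin n → F)) (e : Fin d → F) (v : Fin n → F),
      hermForm n F q v (Im u *ᵥ e) = ∑ i, conj hF (e i) * hermForm n F q v (u i) := by
    intro u e v
    rw [Im_mulVec, herm_sum_right hF]
    exact Finset.sum_congr rfl fun i _ => by rw [herm_smul_right, conj_apply]
  have k' : ∀ (u : Fin d → (Fin n → F)) (e : Fin d → F) (v : Fin n → F),
      hermForm n F q (Im u *ᵥ e) v = ∑ i, e i * hermForm n F q (u i) v := by
    intro u e v
    rw [Im_mulVec, herm_sum_left]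
    exact Finset.sum_congr rfl fun i _ => by rw [herm_smul_left]
  have e1 : ∀ i, hermForm n F q (Im b *ᵥ c) (b i) = 0 := fun i => by
    rw [k']
    exact Finset.sum_eq_zero fun j _ => by rw [h.bb, mul_zero]
  have e2 : ∀ i, hermForm n F q (Im b' *ᵥ c') (b' i) = 0 := fun i => by
    rw [k']
    exact Finset.sum_eq_zero fun j _ => by rw [h.bb', mul_zero]
  have e3 : ∀ i, hermForm n F q (Im b *ᵥ c) (b' i) = c i := fun i => by
    rw [k']
    simp only [h.du, mul_ite, mul_one, mul_zero]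
    rw [Finset.sum_ite_eq' Finset.univ i c, if_pos (Finset.mem_univ i)]
  have e4 : ∀ i, hermForm n F q (Im b' *ᵥ c') (b i) = c' i := fun i => by
    rw [k']
    simp only [h.du', mul_ite, mul_one, mul_zero]
    rw [Finset.sum_ite_eq' Finset.univ i c', if_pos (Finset.mem_univ i)]
  rw [herm_add_left, herm_add_right hF, herm_add_right hF, k, k, k, k]
  simp only [e1, e2, e3, e4, mul_zero, Finset.sum_const_zero, zero_add, add_zero]
  congr 1
  · exact Finset.sum_congr rfl fun i _ => mul_comm _ _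
  · exact Finset.sum_congr rfl fun i _ => mul_comm _ _

/-- the adjoint inverse -/
def ai (hF : Fintype.card F = q ^ 2) (a : Matrix.SpecialLinearGroup (Fin d) F) : Matrix (Fin d) (Fin d) F :=
  ((a⁻¹ : Matrix.SpecialLinearGroup (Fin d) F).1.map (conj hF))ᵀ

theorem ai_one (hF : Fintype.card F = q ^ 2) : ai hF (1 : Matrix.SpecialLinearGroup (Fin d) F) = 1 := by
  unfold ai
  rw [inv_one, Matrix.SpecialLinearGroup.coe_one, Matrix.map_one _ (map_zero _) (map_one _), Matrix.transpose_one]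

theorem ai_mul (hF : Fintype.card F = q ^ 2) (a c : Matrix.SpecialLinearGroup (Fin d) F) :
    ai hF (a * c) = ai hF a * ai hF c := by
  unfold ai
  rw [_root_.mul_inv_rev, Matrix.SpecialLinearGroup.coe_mul, Matrix.map_mul, Matrix.transpose_mul]

theorem det_ai (hF : Fintype.card F = q ^ 2) (a : Matrix.SpecialLinearGroup (Fin d) F) : (ai hF a).det = 1 := by
  unfold ai
  rw [Matrix.det_transpose]
  have h1 := RingHom.map_det (conj hF : F →+* F) (a⁻¹ : Matrix.SpecialLinearGroup (Fin d) F).1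
  rw [Matrix.SpecialLinearGroup.det_coe, map_one] at h1
  exact h1.symm

theorem ai_dot (hF : Fintype.card F = q ^ 2) (a : Matrix.SpecialLinearGroup (Fin d) F) (c e : Fin d → F) :
    (a.1 *ᵥ c) ⬝ᵥ (fun i => conj hF ((ai hF a *ᵥ e) i)) = c ⬝ᵥ (fun i => conj hF (e i)) := by
  have h1 : (fun i => conj hF ((ai hF a *ᵥ e) i)) =
      ((a⁻¹ : Matrix.SpecialLinearGroup (Fin d) F).1)ᵀ *ᵥ (fun i => conj hF (e i)) := by
    funext i
    rw [Matrix.mulVec, Matrix.mulVec, dotProduct, dotProduct, map_sum]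
    refine Finset.sum_congr rfl fun j _ => ?_
    rw [map_mul]
    congr 1
    unfold ai
    rw [Matrix.transpose_apply, Matrix.map_apply, Matrix.transpose_apply, conj_apply, conj_apply, pow_q_pow_q hF]
  rw [h1, Matrix.dotProduct_mulVec, ← Matrix.mulVec_transpose, Matrix.transpose_transpose, mulVec_mulVec]
  have h2 : (a⁻¹ : Matrix.SpecialLinearGroup (Fin d) F).1 * a.1 = 1 := by
    rw [← Matrix.SpecialLinearGroup.coe_mul, inv_mul_cancel, Matrix.SpecialLinearGroup.coe_one]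
  rw [h2, one_mulVec]

theorem ai_dot' (hF : Fintype.card F = q ^ 2) (a : Matrix.SpecialLinearGroup (Fin d) F) (c e : Fin d → F) :
    (ai hF a *ᵥ c) ⬝ᵥ (fun i => conj hF ((a.1 *ᵥ e) i)) = c ⬝ᵥ (fun i => conj hF (e i)) := by
  have h1 := ai_dot hF a e c
  have h2 : ∀ u v : Fin d → F, conj hF (u ⬝ᵥ fun i => conj hF (v i)) = v ⬝ᵥ fun i => conj hF (u i) := by
    intro u v
    rw [dotProduct, map_sum]
    refine Finset.sum_congr rfl fun i _ => ?_
    rw [map_mul, mul_comm]
    congr 1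
    rw [conj_apply, conj_apply, pow_q_pow_q hF]
  rw [← h2, h1, h2]

/-- the matrix of `kap a` -/
def kM (hF : Fintype.card F = q ^ 2) (b b' : Fin d → (Fin n → F)) (a : Matrix.SpecialLinearGroup (Fin d) F) :
    Matrix (Fin n) (Fin n) F :=
  Matrix.fromCols (Im b) (Im b') * Matrix.fromBlocks a.1 0 0 (ai hF a) * Matrix.fromRows (Pm q b') (Pm q b)

theorem kM_mulVec (hF : Fintype.card F = q ^ 2) (h : DB q b b') (a : Matrix.SpecialLinearGroup (Fin d) F)
    (c c' : Fin d → F) :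
    kM hF b b' a *ᵥ (Im b *ᵥ c + Im b' *ᵥ c') = Im b *ᵥ (a.1 *ᵥ c) + Im b' *ᵥ (ai hF a *ᵥ c') := by
  unfold kM
  rw [← mulVec_mulVec, ← mulVec_mulVec, Matrix.fromRows_mulVec, h.coord, h.coord', Matrix.fromBlocks_mulVec,
    Matrix.fromCols_mulVec]
  simp

theorem kM_det (hF : Fintype.card F = q ^ 2) (h : DB q b b') (a : Matrix.SpecialLinearGroup (Fin d) F) :
    (kM hF b b' a).det = 1 := by
  unfold kM
  rw [Matrix.det_conj_of_mul_eq_one, Matrix.det_fromBlocks_zero₂₁, Matrix.SpecialLinearGroup.det_coe, det_ai, mul_one]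
  · rw [Matrix.fromCols_mul_fromRows, h.m5]
  · rw [Matrix.fromRows_mul_fromCols, h.m1, h.m2, h.m3, h.m4, Matrix.fromBlocks_one]

theorem kM_iso (hF : Fintype.card F = q ^ 2) (h : DB q b b') (a : Matrix.SpecialLinearGroup (Fin d) F) (u v : Fin n → F) :
    hermForm n F q (kM hF b b' a *ᵥ u) (kM hF b b' a *ᵥ v) = hermForm n F q u v := by
  obtain ⟨c, c', rfl⟩ := h.span u
  obtain ⟨e, e', rfl⟩ := h.span v
  rw [kM_mulVec hF h, kM_mulVec hF h, h.herm hF, h.herm hF, ai_dot, ai_dot']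

/-- `SL(W) → SU(V)` -/
def kap (hF : Fintype.card F = q ^ 2) (h : DB q b b') : Matrix.SpecialLinearGroup (Fin d) F →* SU n F q where
  toFun a := mkSU (kM hF b b' a) (kM_det hF h a) (kM_iso hF h a)
  map_one' := by
    apply ext_act
    intro v
    show kM hF b b' 1 *ᵥ v = _
    obtain ⟨c, c', rfl⟩ := h.span v
    rw [kM_mulVec hF h, ai_one, Matrix.SpecialLinearGroup.coe_one, one_mulVec, one_mulVec, act_one]
  map_mul' a a' := by
    apply ext_act
    intro v
    rw [act_mul]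
    show kM hF b b' (a * a') *ᵥ v = kM hF b b' a *ᵥ (kM hF b b' a' *ᵥ v)
    obtain ⟨c, c', rfl⟩ := h.span v
    rw [kM_mulVec hF h, kM_mulVec hF h, kM_mulVec hF h, ai_mul, Matrix.SpecialLinearGroup.coe_mul]
    simp only [mulVec_mulVec, Matrix.mul_assoc]

theorem act_kap (hF : Fintype.card F = q ^ 2) (h : DB q b b') (a : Matrix.SpecialLinearGroup (Fin d) F) (c c' : Fin d → F) :
    act (kap hF h a) (Im b *ᵥ c + Im b' *ᵥ c') = Im b *ᵥ (a.1 *ᵥ c) + Im b' *ᵥ (ai hF a *ᵥ c') := kM_mulVec hF h a c c'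

theorem act_kap_W (hF : Fintype.card F = q ^ 2) (h : DB q b b') (a : Matrix.SpecialLinearGroup (Fin d) F) (c : Fin d → F) :
    act (kap hF h a) (Im b *ᵥ c) = Im b *ᵥ (a.1 *ᵥ c) := by
  have h1 := act_kap hF h a c 0
  rwa [mulVec_zero, mulVec_zero, mulVec_zero, add_zero, add_zero] at h1

theorem act_kap_W' (hF : Fintype.card F = q ^ 2) (h : DB q b b') (a : Matrix.SpecialLinearGroup (Fin d) F) (c : Fin d → F) :
    act (kap hF h a) (Im b' *ᵥ c) = Im b' *ᵥ (ai hF a *ᵥ c) := by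
  have h1 := act_kap hF h a 0 c
  rwa [mulVec_zero, mulVec_zero, mulVec_zero, zero_add, zero_add] at h1

end

end Cfsg.Agent.H452.RC
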