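import Cfsg.Agent.H452.RC.SLW

/-!
# Dual bases of complementary totally singular subspaces (helper452)

* `decomp_ts` : `V = W ⊕ W'`; `exists_db`.
-/

set_option autoImplicit false
set_option linter.unusedSectionVars false

namespace Cfsg.Agent.H452.RC

open Matrix Cfsg Module Cfsg.Agent.LieClassical.HermBasic Cfsg.Agent.LieClassical.HermSiegel
open Cfsg.Agent.H380.RC
open Cfsg.Agent.H189.SN (Im Pm Im_mulVec Pm_mulVec)

variable {F : Type*} [Field F] [Fintype F] {n d q : ℕ}

theorem eq_sum_compl {W W' : Submodule F (Fin n → F)} (hc : IsCompl W W') (v : Fin n → F) :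
    ∃ w ∈ W, ∃ w' ∈ W', v = w + w' := by
  have h1 : v ∈ W ⊔ W' := by rw [hc.sup_eq_top]; trivial
  obtain ⟨w, hw, w', hw', h⟩ := Submodule.mem_sup.1 h1
  exact ⟨w, hw, w', hw', h.symm⟩

/-- a vector of `W'` orthogonal to `W` is zero -/
theorem eq_zero_of_perp (hF : Fintype.card F = q ^ 2) {W W' : Submodule F (Fin n → F)} (hW' : TS q W')
    (hc : IsCompl W W') {u : Fin n → F} (hu : u ∈ W') (h : ∀ w ∈ W, hermForm n F q u w = 0) : u = 0 := by
  apply herm_nondeg hF
  intro v
  obtain ⟨w, hw, w', hw', rfl⟩ := eq_sum_compl hc v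
  rw [herm_add_right hF, h w hw, hW' u hu w' hw', add_zero]

theorem exists_db (hF : Fintype.card F = q ^ 2) {W W' : Submodule F (Fin n → F)} (hW : TS q W) (hW' : TS q W')
    (hc : IsCompl W W') (hd : finrank F W = d) :
    ∃ b b' : Fin d → (Fin n → F), DB q b b' ∧ (∀ c, Im b *ᵥ c ∈ W) ∧ (∀ v ∈ W, ∃ c, v = Im b *ᵥ c) ∧
      (∀ c, Im b' *ᵥ c ∈ W') ∧ ∀ v ∈ W', ∃ c, v = Im b' *ᵥ c := by
  classical
  let B : Basis (Fin d) F W := finBasisOfFinrankEq F W hd
  let b : Fin d → (Fin n → F) := fun i => (B i : Fin n → F)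
  let L : Fin d → ((Fin n → F) →ₗ[F] F) := fun j => (B.coord j) ∘ₗ (Submodule.projectionOnto W W' hc)
  have hL1 : ∀ j, ∀ w' ∈ W', L j w' = 0 := by
    intro j w' hw'
    show B.coord j (Submodule.projectionOnto W W' hc w') = 0
    rw [(Submodule.projectionOnto_apply_eq_zero_iff hc).2 hw', map_zero]
  have hL2 : ∀ i j, L j (b i) = if i = j then 1 else 0 := by
    intro i j
    show B.coord j (Submodule.projectionOnto W W' hc (B i : Fin n → F)) = _
    rw [Submodule.projectionOnto_apply_left, Basis.coord_apply, Basis.repr_self, Finsupp.single_apply]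
  choose b' hb' using fun j => exists_rep hF (L j)
  have hmem : ∀ j, b' j ∈ W' := by
    intro j
    obtain ⟨u, hu, u', hu', h⟩ := eq_sum_compl hc (b' j)
    have h1 : u = 0 := by
      refine eq_zero_of_perp hF hW hc.symm hu fun w' hw' => ?_
      apply herm_eq_zero_swap hF
      have h2 := hb' j w'
      rw [hL1 j w' hw', h, herm_add_right hF, hW' w' hw' u' hu', add_zero] at h2
      exact h2
    rw [h, h1, zero_add]
    exact hu'
  have hbm : ∀ i, b i ∈ W := fun i => (B i).2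
  have hspanW : ∀ v ∈ W, ∃ c, v = Im b *ᵥ c := by
    intro v hv
    refine ⟨fun i => B.repr ⟨v, hv⟩ i, ?_⟩
    rw [Im_mulVec]
    have h1 := congrArg Subtype.val (B.sum_repr ⟨v, hv⟩)
    rw [Submodule.coe_sum] at h1
    exact h1.symm
  have hmemW : ∀ c, Im b *ᵥ c ∈ W := fun c => by
    rw [Im_mulVec]
    exact W.sum_mem fun i _ => W.smul_mem _ (hbm i)
  have hmemW' : ∀ c, Im b' *ᵥ c ∈ W' := fun c => by
    rw [Im_mulVec]
    exact W'.sum_mem fun i _ => W'.smul_mem _ (hmem i)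
  have hdu : ∀ i j, hermForm n F q (b i) (b' j) = if i = j then 1 else 0 := fun i j => by rw [hb', hL2]
  have hdu' : ∀ i j, hermForm n F q (b' i) (b j) = if i = j then 1 else 0 := by
    intro i j
    rw [herm_swap hF, hdu]
    by_cases h : i = j
    · rw [if_pos h.symm, if_pos h, one_pow]
    · rw [if_neg fun h1 => h h1.symm, if_neg h, zero_pow_q hF]
  have hspanW' : ∀ v ∈ W', ∃ c, v = Im b' *ᵥ c := by
    intro v hv
    refine ⟨fun j => hermForm n F q v (b j), ?_⟩
    rw [← sub_eq_zero]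
    refine eq_zero_of_perp hF hW' hc (W'.sub_mem hv (hmemW' _)) fun w hw => ?_
    obtain ⟨c, rfl⟩ := hspanW w hw
    rw [Im_mulVec b c, herm_sum_right hF]
    refine Finset.sum_eq_zero fun i _ => ?_
    rw [herm_smul_right, herm_sub_left, Im_mulVec, herm_sum_left]
    simp only [herm_smul_left, hdu', mul_ite, mul_one, mul_zero]
    rw [Finset.sum_ite_eq' Finset.univ i, if_pos (Finset.mem_univ i), sub_self, mul_zero]
  refine ⟨b, b', ⟨fun i j => hW _ (hbm i) _ (hbm j), fun i j => hW' _ (hmem i) _ (hmem j), hdu, hdu', fun v => ?_⟩,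
    hmemW, hspanW, hmemW', hspanW'⟩
  obtain ⟨w, hw, w', hw', rfl⟩ := eq_sum_compl hc v
  obtain ⟨c, rfl⟩ := hspanW w hw
  obtain ⟨c', rfl⟩ := hspanW' w' hw'
  exact ⟨c, c', rfl⟩

end Cfsg.Agent.H452.RC
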