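import Cfsg.Agent.H380.RC.UEnv
import Cfsg.Agent.H106.RC.Use
import Cfsg.Agent.H106.RC.Ari
import Cfsg.Agent.H189.SN.Fam

/-!
# S3510, family E (unitary groups): the subgroup `SU(A)` of an invariant nondegenerate subspace (helper452)

`b` an orthonormal basis of `A`, `ph U hb : SU m F q →* G`, `MM U hb` its range.

* `MM_le`, `ph_injective`, `MM_perf`, `MM_ne` ;
* `pi` : `MM → PSU m F q`, `pi_surjective`, `pi_ker` ;
* `Rs U hb x B ρ` : `x` induces `(B, ρ)` on `A` ; `exists_rs`, `conj_ph`, `mem_normalizer`, `scalar_of_comm`.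
-/

set_option autoImplicit false
set_option linter.unusedSectionVars false

namespace Cfsg.Agent.H452.RC

open Matrix Cfsg Module Cfsg.Agent.LieClassical.HermBasic Cfsg.Agent.LieClassical.HermSiegel
  Cfsg.Agent.LieClassical.HermGen Cfsg.Agent.LieClassical.SUBasic Cfsg.Agent.ClassicalGeometry.PSUAutBasic
  Cfsg.Agent.ClassicalGeometry.PSUAutCount Cfsg.Agent.LieClassical.FieldTransfer Cfsg.Agent.ClassicalGeometry
open Cfsg.Agent.H380.RC
open Cfsg.Agent.H189.SN (ON phi Im phi_Im phi_perp phi_injective pr_phi_injective sm exists_B semiConj_phi decomp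
  Im_mulVec Im_injective)

section

variable {G Ω : Type*} [Group G] [MulAction G Ω] {N : Subgroup G} {F : Type*} [Field F] [Fintype F] {n m q : ℕ}
  (U : UEnv G Ω N F n q) {b : Fin m → (Fin n → F)} (hb : ON q b)

/-- `SU m → G` -/
noncomputable def ph : SU m F q →* G := U.el.comp (phi U.hF hb)

theorem ph_apply (a : SU m F q) : ph U hb a = U.el (phi U.hF hb a) := rfl

/-- the subgroup `SU(A)` of `G` -/
noncomputable def MM : Subgroup G := (ph U hb).range

theorem ph_mem (a : SU m F q) : ph U hb a ∈ MM U hb := ⟨a, rfl⟩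

theorem MM_le : MM U hb ≤ N := by
  rintro _ ⟨a, rfl⟩
  exact U.el_mem _

theorem ph_injective (hmn : m < n) : Function.Injective (ph U hb) := by
  rw [injective_iff_map_eq_one]
  intro a ha
  rw [ph_apply, U.el_eq_one, ← pr_eq_one_iff] at ha
  apply pr_phi_injective U.hF U.hn hb hmn
  rw [map_one]
  exact ha

/-- `SU(A) → PSU(A)` -/
noncomputable def pi (hmn : m < n) : MM U hb →* PSU m F q :=
  (pr m F q).comp (MonoidHom.ofInjective (ph_injective U hb hmn)).symm.toMonoidHom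

theorem pi_ph (hmn : m < n) (a : SU m F q) : pi U hb hmn ⟨ph U hb a, ph_mem U hb a⟩ = pr m F q a := by
  have h1 : (⟨ph U hb a, ph_mem U hb a⟩ : MM U hb) = MonoidHom.ofInjective (ph_injective U hb hmn) a := rfl
  rw [h1]
  change pr m F q ((MonoidHom.ofInjective (ph_injective U hb hmn)).symm
    (MonoidHom.ofInjective (ph_injective U hb hmn) a)) = _
  rw [MulEquiv.symm_apply_apply]

theorem pi_surjective (hmn : m < n) : Function.Surjective (pi U hb hmn) := by
  intro s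
  obtain ⟨a, rfl⟩ := pr_surjective s
  exact ⟨_, pi_ph U hb hmn a⟩

theorem pi_ker (hmn : m < n) : (pi U hb hmn).ker ≤ Subgroup.center (MM U hb) := by
  rintro ⟨_, a, rfl⟩ h
  rw [MonoidHom.mem_ker] at h
  have h1 : pr m F q a = 1 := (pi_ph U hb hmn a).symm.trans h
  rw [pr_eq_one_iff, Subgroup.mem_center_iff] at h1
  rw [Subgroup.mem_center_iff]
  rintro ⟨_, c, rfl⟩
  apply Subtype.ext
  change ph U hb c * ph U hb a = ph U hb a * ph U hb c
  rw [← map_mul, ← map_mul, h1 c]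

theorem MM_perf (h : commutator (SU m F q) = ⊤) : ⁅MM U hb, MM U hb⁆ = MM U hb := by
  have h1 : MM U hb = Subgroup.map (ph U hb) ⊤ := by rw [← MonoidHom.range_eq_map]; rfl
  rw [h1, ← Subgroup.map_commutator]
  congr 1

/-- `x` induces `(B, ρ)` on `A` -/
structure Rs (x : G) (f : (Fin n → F) → (Fin n → F)) (B : GU m F q) (ρ : F ≃+* F) : Prop where
  lft : U.Lft x f
  eq : ∀ c, f (Im b *ᵥ c) = Im b *ᵥ sl B ρ c
  semi : ∀ a : SU m F q, x * ph U hb a * x⁻¹ = ph U hb (semiConj B ρ a)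

theorem exists_rs {x : G} {f : (Fin n → F) → (Fin n → F)} (hx : U.Lft x f)
    (hA : ∀ i, ∃ c : Fin m → F, f (b i) = Im b *ᵥ c) : ∃ (B : GU m F q) (ρ : F ≃+* F), Rs U hb x f B ρ := by
  obtain ⟨A, ρ, rfl, h1⟩ := id hx
  obtain ⟨B, hB⟩ := exists_B U.hF hb (A := A) (ρ := ρ) hA
  refine ⟨B, ρ, hx, fun c => (hB c).symm, fun a => ?_⟩
  rw [ph_apply, ph_apply]
  apply hx.conj_el
  intro v
  rw [← semiConj_phi U.hF hb hB, sl_def, sl_def, act_semiConj]

theorem mem_normalizer [Finite G] {x : G} {f : (Fin n → F) → (Fin n → F)} (hx : U.Lft x f)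
    (hA : ∀ i, ∃ c : Fin m → F, f (b i) = Im b *ᵥ c) : x ∈ Subgroup.normalizer (MM U hb : Set G) := by
  obtain ⟨B, ρ, h⟩ := exists_rs U hb hx hA
  apply Subgroup.mem_normalizer_fintype
  rintro _ ⟨a, rfl⟩
  rw [h.semi]
  exact ph_mem U hb _

/-- an element commuting with `SU(A)`, `dim A ≥ 3`, is a scalar on `A` -/
theorem scalar_of_comm (hm : 3 ≤ m) (hmn : m < n) {x : G} {f : (Fin n → F) → (Fin n → F)} (hx : U.Lft x f)
    (hA : ∀ i, ∃ c : Fin m → F, f (b i) = Im b *ᵥ c) (hc : ∀ y ∈ MM U hb, x * y = y * x) :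
    ∃ c : F, ∀ d, f (Im b *ᵥ d) = c • (Im b *ᵥ d) := by
  obtain ⟨B, ρ, h⟩ := exists_rs U hb hx hA
  have h1 : ∀ a, semiConj B ρ a = a := by
    intro a
    apply ph_injective U hb hmn
    rw [← h.semi, hc _ (ph_mem U hb a), mul_inv_cancel_right]
  have h2 : toAut B ρ = toAut (1 : GU m F q) (1 : F ≃+* F) := by
    rw [Cfsg.Agent.H189.SN.toAut_one]
    ext s
    obtain ⟨a, rfl⟩ := pr_surjective s
    rw [PSUAutMain.toAut_pr', h1]
    rfl
  obtain ⟨h3, c, hc, h4⟩ := eq_of_toAut_eq U.hF hm h2.symm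
  refine ⟨c, fun d => ?_⟩
  rw [h.eq, ← mulVec_smul]
  congr 1
  rw [sl_def, h4, h3, smul_mulVec, gm_one, one_mulVec]
  rfl

end

end Cfsg.Agent.H452.RC
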